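import Cfsg.Agent.H472.ComRed

/-!
# The strong commutator property `[x, D] ≤ O_p(D)` (helper722, for S3842, S4094)

`Str p x` : `[x, D] ≤ O_p(D)` for every proper subgroup `D` containing `x` (field `ind` of `MinCtx`).

* `Str.pow`, `Str.mem` : the powers of `x`; a power of `x` which is a `p`-element lies in `O_p(D)`;
* `Str.conj`, `Str.congr` : transport;
* `Str.exists_sylow` : **`x` normalizes a Sylow `p`-subgroup of `G` containing the `p`-part of `x`**.
-/

set_option autoImplicit false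

namespace Cfsg.Agent.H722.Strong

open Subgroup Cfsg
open Cfsg.Agent.H472.ComRed (cm cm_eq_one map_cm MinCtx)
open Cfsg.Agent.Lib.Cores

universe u

variable {G : Type u} [Group G] {p : ℕ} {x : G}

/-- `[x, D] ≤ O_p(D)` for every proper subgroup `D` containing `x`. -/
def Str (p : ℕ) (x : G) : Prop :=
  ∀ D : Subgroup G, x ∈ D → D ≠ ⊤ → ∀ d ∈ D, cm x d ∈ (pCore p D).map D.subtype

theorem _root_.Cfsg.Agent.H472.ComRed.MinCtx.str {S : Subgroup G} (h : MinCtx p S x) : Str p x := h.ind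

theorem cm_conj (g a b : G) : g * cm a b * g⁻¹ = cm (g * a * g⁻¹) (g * b * g⁻¹) := by
  unfold cm; group

theorem mem_map_pCore {D : Subgroup G} {w : G} (hw : w ∈ D) :
    w ∈ (pCore p D).map D.subtype ↔ (⟨w, hw⟩ : D) ∈ pCore p D := by
  constructor
  · rintro ⟨c, hc, hcx⟩
    have : c = ⟨w, hw⟩ := Subtype.ext hcx
    rwa [← this]
  · intro h
    exact ⟨_, h, rfl⟩

theorem cm_mem {D : Subgroup G} {a b : G} (ha : a ∈ D) (hb : b ∈ D) : cm a b ∈ D :=
  D.mul_mem (D.mul_mem (D.mul_mem (D.inv_mem ha) (D.inv_mem hb)) ha) hb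

/-- the powers of `x` are central modulo `O_p(D)` -/
theorem Str.commute (h : Str p x) {D : Subgroup G} (hx : x ∈ D) (hD : D ≠ ⊤) {w : D} (hw : (w : G) ∈ zpowers x)
    (d : D) : Commute (QuotientGroup.mk' (pCore p D) w) (QuotientGroup.mk' (pCore p D) d) := by
  obtain ⟨i, hi⟩ := hw
  have hw' : w = (⟨x, hx⟩ : D) ^ i := Subtype.ext hi.symm
  have h1 : cm (⟨x, hx⟩ : D) d ∈ pCore p D := by
    obtain ⟨c, hc, hcx⟩ := h D hx hD d d.2
    have : c = cm (⟨x, hx⟩ : D) d := Subtype.ext hcx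
    rwa [this] at hc
  have h2 : Commute (QuotientGroup.mk' (pCore p D) ⟨x, hx⟩) (QuotientGroup.mk' (pCore p D) d) := by
    have h3 : QuotientGroup.mk' (pCore p D) (cm (⟨x, hx⟩ : D) d) = 1 := (QuotientGroup.eq_one_iff _).2 h1
    rw [map_cm] at h3
    exact cm_eq_one.1 h3
  rw [hw', map_zpow]
  exact h2.zpow_left i

/-- **Powers of `x`.** -/
theorem Str.pow (h : Str p x) {D : Subgroup G} (hx : x ∈ D) (hD : D ≠ ⊤) {w : G} (hw : w ∈ zpowers x) {d : G}
    (hd : d ∈ D) : cm w d ∈ (pCore p D).map D.subtype := by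
  have hwD : w ∈ D := (zpowers_le.2 hx) hw
  refine ⟨cm (⟨w, hwD⟩ : D) ⟨d, hd⟩, ?_, rfl⟩
  have h1 := h.commute hx hD (w := ⟨w, hwD⟩) hw ⟨d, hd⟩
  refine (QuotientGroup.eq_one_iff _).1 ?_
  show QuotientGroup.mk' (pCore p D) (cm (⟨w, hwD⟩ : D) ⟨d, hd⟩) = 1
  rw [map_cm]
  exact cm_eq_one.2 h1

/-- **A power of `x` which is a `p`-element lies in `O_p(D)`.** -/
theorem Str.mem (h : Str p x) {D : Subgroup G} (hx : x ∈ D) (hD : D ≠ ⊤) {w : G} (hw : w ∈ zpowers x)
    {k : ℕ} (hk : w ^ p ^ k = 1) : w ∈ (pCore p D).map D.subtype := by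
  have hwD : w ∈ D := (zpowers_le.2 hx) hw
  set w' : D := ⟨w, hwD⟩ with hw'
  set q := QuotientGroup.mk' (pCore p D) with hq
  have hker : ∀ {v : D}, q v = 1 ↔ v ∈ pCore p D := fun {v} => QuotientGroup.eq_one_iff v
  set K := (zpowers (q w')).comap q with hK
  have hn : K.Normal := by
    have h1 : (zpowers (q w')).Normal := by
      refine ⟨fun v hv g => ?_⟩
      obtain ⟨i, rfl⟩ := hv
      obtain ⟨d, rfl⟩ := QuotientGroup.mk'_surjective (pCore p D) g
      have h2 : Commute (q d) (q w') := (h.commute hx hD (w := w') hw d).symm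
      show q d * q w' ^ i * (q d)⁻¹ ∈ _
      rw [(h2.zpow_right i).eq, mul_inv_cancel_right]
      exact ⟨i, rfl⟩
    exact h1.comap q
  have hp : IsPGroup p K := by
    intro v
    have h1 : q v ∈ zpowers (q w') := v.2
    obtain ⟨i, hi⟩ := h1
    have h2 : q w' ^ p ^ k = 1 := by
      rw [← map_pow]
      have h3 : w' ^ p ^ k = 1 := Subtype.ext hk
      rw [h3, map_one]
    have h3 : ((v : D)) ^ p ^ k ∈ pCore p D := by
      rw [← hker, map_pow, ← hi]
      show (q w' ^ i) ^ p ^ k = 1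
      rw [← zpow_natCast, ← zpow_mul, mul_comm, zpow_mul, zpow_natCast, h2, one_zpow]
    obtain ⟨j, hj⟩ := pCore_isPGroup (G := D) p ⟨_, h3⟩
    refine ⟨k + j, Subtype.ext ?_⟩
    show (v : D) ^ p ^ (k + j) = 1
    rw [pow_add, pow_mul]
    exact congrArg Subtype.val hj
  have h1 : w' ∈ pCore p D := le_pCore hn hp (show q w' ∈ zpowers (q w') from mem_zpowers _)
  exact ⟨w', h1, rfl⟩

/-- Transport along an isomorphism. -/
theorem Str.congr {H : Type*} [Group H] (h : Str p x) (e : G ≃* H) : Str p (e x) := by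
  intro D hxD hD d hd
  set D' := D.comap e.toMonoidHom with hD'
  have h1 : D' ≠ ⊤ := by
    intro h2
    apply hD
    rw [eq_top_iff]
    intro v _
    have h3 : e.symm v ∈ D' := by rw [h2]; trivial
    have h4 : e (e.symm v) ∈ D := h3
    rwa [e.apply_symm_apply] at h4
  have hd' : e.symm d ∈ D' := by
    show e (e.symm d) ∈ D
    rwa [e.apply_symm_apply]
  obtain ⟨c, hc, hcx⟩ := h D' hxD h1 _ hd'
  let e' : D' ≃* D :=
    { toFun := fun w => ⟨e w, w.2⟩
      invFun := fun w => ⟨e.symm w, by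
        show e (e.symm (w : H)) ∈ D
        rw [e.apply_symm_apply]; exact w.2⟩
      left_inv := fun w => Subtype.ext (e.symm_apply_apply _)
      right_inv := fun w => Subtype.ext (e.apply_symm_apply _)
      map_mul' := fun a b => Subtype.ext (map_mul e _ _) }
  have h2 : e' c ∈ pCore p D := by
    rw [← map_equiv_pCore e' p]
    exact ⟨c, hc, rfl⟩
  refine ⟨e' c, h2, ?_⟩
  show e (c : G) = cm (e x) d
  have h3 : (c : G) = cm x (e.symm d) := hcx
  rw [h3]
  have h4 : e (cm x (e.symm d)) = cm (e x) (e (e.symm d)) := map_cm e.toMonoidHom x (e.symm d)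
  rw [h4, e.apply_symm_apply]

theorem Str.conj (h : Str p x) (g : G) : Str p (g * x * g⁻¹) := by
  have h1 := h.congr (MulAut.conj g)
  rwa [MulAut.conj_apply] at h1

/-- **`x` normalizes a Sylow `p`-subgroup containing the `p`-part of `x`.** -/
theorem Str.exists_sylow [Finite G] [hp : Fact p.Prime] (h : Str p x)
    (hO : ∀ N : Subgroup G, N.Normal → IsPGroup p N → N = ⊥) {e : G} (he : e ∈ zpowers x) {k : ℕ}
    (hk : e ^ p ^ k = 1) (he1 : e ≠ 1) : ∃ P : Sylow p G, e ∈ P ∧ x ∈ normalizer (P : Set G) := by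
  set s : Set (Subgroup G) := {R | IsPGroup p R ∧ e ∈ R ∧ x ∈ normalizer (R : Set G)} with hs
  have hne : s.Nonempty := by
    refine ⟨zpowers e, ?_, mem_zpowers e, ?_⟩
    · refine IsPGroup.of_card_dvd_pow (n := k) ?_
      rw [Nat.card_zpowers]
      exact orderOf_dvd_of_pow_eq_one hk
    · obtain ⟨i, rfl⟩ := he
      have hc : ∀ j : ℤ, x * (x ^ i) ^ j * x⁻¹ = (x ^ i) ^ j := by
        intro j
        rw [← zpow_mul, mul_self_zpow, zpow_add, zpow_one, mul_inv_cancel_right]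
      rw [mem_normalizer_iff]
      intro v
      constructor
      · rintro ⟨j, rfl⟩
        show x * (x ^ i) ^ j * x⁻¹ ∈ _
        rw [hc]
        exact ⟨j, rfl⟩
      · rintro ⟨j, hj⟩
        have hj' : (x ^ i) ^ j = x * v * x⁻¹ := hj
        refine ⟨j, ?_⟩
        show (x ^ i) ^ j = v
        have h1 := hc j
        have h2 : v = x⁻¹ * (x * v * x⁻¹) * x := by group
        rw [h2, ← hj']
        calc (x ^ i) ^ j = x⁻¹ * (x * (x ^ i) ^ j * x⁻¹) * x := by group
          _ = _ := by rw [h1]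
  obtain ⟨R, hRmax⟩ := (Set.toFinite s).exists_maximal hne
  obtain ⟨⟨hRp, heR, hxR⟩, hmax⟩ := hRmax
  set N : Subgroup G := normalizer (R : Set G) with hN
  have hNt : N ≠ ⊤ := by
    intro h1
    have h2 : R.Normal := normalizer_eq_top_iff.1 h1
    have h3 := hO R h2 hRp
    rw [h3, mem_bot] at heR
    exact he1 heR
  obtain ⟨Q⟩ : Nonempty (Sylow p N) := inferInstance
  set R' : Subgroup G := (Q : Subgroup N).map N.subtype with hR'
  have hOQ : pCore p N ≤ (Q : Subgroup N) := pCore_le_sylow Q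
  have hRN : R ≤ N := le_normalizer
  have hRQ : R ≤ R' := by
    intro r hr
    have h1 : R.subgroupOf N ≤ pCore p N := le_pCore (by
      refine ⟨fun v hv g => ?_⟩
      rw [mem_subgroupOf] at hv ⊢
      exact (mem_normalizer_iff.1 g.2 _).1 hv) hRp.comap_subtype
    exact ⟨⟨r, hRN hr⟩, hOQ (h1 (mem_subgroupOf.2 hr)), rfl⟩
  have hstep : ∀ w ∈ zpowers x, ∀ v ∈ R', w * v * w⁻¹ ∈ R' := by
    rintro w hw _ ⟨v, hv, rfl⟩
    have h1 := h.pow hxR hNt (w := w⁻¹) (inv_mem hw) (d := (v : G)⁻¹) (N.inv_mem v.2)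
    obtain ⟨c, hc, hcx⟩ := h1
    have h2 : w * (v : G) * w⁻¹ = (c : G) * v := by
      have h3 : (c : G) = cm w⁻¹ (v : G)⁻¹ := hcx
      rw [h3]
      unfold cm
      group
    refine ⟨c * v, (Q : Subgroup N).mul_mem (hOQ hc) hv, ?_⟩
    rw [map_mul]
    exact h2.symm
  have hxR' : x ∈ normalizer (R' : Set G) := by
    rw [mem_normalizer_iff]
    intro v
    constructor
    · exact hstep x (mem_zpowers x) v
    · intro hv
      have h1 := hstep x⁻¹ (inv_mem (mem_zpowers x)) _ hv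
      have h2 : x⁻¹ * (x * v * x⁻¹) * x⁻¹⁻¹ = v := by group
      rwa [h2] at h1
  have hR's : R' ∈ s := ⟨Q.isPGroup'.map _, hRQ heR, hxR'⟩
  have hEq : R' = R := le_antisymm (hmax hR's hRQ) hRQ
  -- `R` is a Sylow subgroup
  have hidx : ¬ p ∣ R.index := by
    intro hd
    obtain ⟨n, hn⟩ := IsPGroup.iff_card.1 hRp
    have h1 := Sylow.card_quotient_normalizer_modEq_card_quotient hn
    have h2 : Nat.card (N ⧸ R.subgroupOf N) ≡ Nat.card (G ⧸ R) [MOD p] := h1
    have h3 : R.subgroupOf N = (Q : Subgroup N) := by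
      rw [← hEq, hR', subgroupOf, comap_map_eq_self_of_injective N.subtype_injective]
    rw [h3] at h2
    have h4 : p ∣ (Q : Subgroup N).index := by
      have h5 : Nat.card (G ⧸ R) ≡ 0 [MOD p] := (Nat.modEq_zero_iff_dvd).2 hd
      exact (Nat.modEq_zero_iff_dvd).1 (h2.trans h5)
    exact Q.not_dvd_index h4
  exact ⟨hRp.toSylow hidx, heR, hxR⟩

/-- the `p`-part and the `p'`-part -/
theorem exists_parts [Finite G] (hp : p.Prime) (x : G) : ∃ e ∈ zpowers x, ∃ w ∈ zpowers x, ∃ k m : ℕ, x = e * w ∧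
    e ^ p ^ k = 1 ∧ w ^ m = 1 ∧ ¬ p ∣ m := by
  obtain ⟨k, m, hm, hkm⟩ := Nat.exists_eq_pow_mul_and_not_dvd (n := orderOf x) (orderOf_pos x).ne' p hp.ne_one
  have hcop : IsCoprime ((p ^ k : ℕ) : ℤ) (m : ℤ) :=
    Nat.isCoprime_iff_coprime.2 (Nat.Coprime.pow_left k ((Nat.Prime.coprime_iff_not_dvd hp).2 hm))
  obtain ⟨a, b, hab⟩ := hcop
  have hx : x ^ ((p ^ k : ℕ) * m : ℤ) = 1 := by
    have h1 : x ^ (p ^ k * m) = 1 := by rw [← hkm, pow_orderOf_eq_one]
    rw [← Nat.cast_mul, zpow_natCast]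
    exact h1
  refine ⟨x ^ (b * m), ⟨_, rfl⟩, x ^ (a * (p ^ k : ℕ)), ⟨_, rfl⟩, k, m, ?_, ?_, ?_, hm⟩
  · rw [← zpow_add, add_comm, hab, zpow_one]
  · rw [← zpow_natCast, ← zpow_mul, show b * (m : ℤ) * ((p ^ k : ℕ) : ℤ) = ((p ^ k : ℕ) * m : ℤ) * b from by ring,
      zpow_mul, hx, one_zpow]
  · rw [← zpow_natCast, ← zpow_mul, show a * ((p ^ k : ℕ) : ℤ) * (m : ℤ) = ((p ^ k : ℕ) * m : ℤ) * a from by ring,
      zpow_mul, hx, one_zpow]

/-- **`|C(x)|` is odd** if `p` is odd and `O(C(t)) = 1` for the involutions `t`. -/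
theorem Str.odd [Finite G] [hp : Fact p.Prime] (hs : Str p x) (hp2 : p ≠ 2) (hd : p ∣ orderOf x)
    (hZ : center G = ⊥) (bal : ∀ t : G, orderOf t = 2 → centralizerPPrimeCore 2 t = ⊥) :
    Odd (Nat.card ↥(centralizer ({x} : Set G))) := by
  rw [← Nat.not_even_iff_odd, even_iff_two_dvd]
  intro h2
  have : Fact (Nat.Prime 2) := ⟨Nat.prime_two⟩
  obtain ⟨⟨t, ht⟩, hto⟩ := exists_prime_orderOf_dvd_card' 2 h2
  rw [orderOf_mk] at hto
  have htx : t * x = x * t := mem_centralizer_singleton_iff.1 ht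
  have hxE : x ∈ centralizer ({t} : Set G) := mem_centralizer_singleton_iff.2 htx.symm
  have hE : centralizer ({t} : Set G) ≠ ⊤ := by
    intro h1
    have h3 : t ∈ center G := by
      rw [mem_center_iff]
      intro g
      exact mem_centralizer_singleton_iff.1 (h1 ▸ mem_top g)
    rw [hZ, mem_bot] at h3
    rw [h3, orderOf_one] at hto
    norm_num at hto
  obtain ⟨e, he, w, hw, k, m, hx, hek, hwm, hm⟩ := exists_parts hp.out x
  have h3 := hs.mem hxE hE he hek
  have h4 : pCore p ↥(centralizer ({t} : Set G)) ≤ pPrimeCore 2 ↥(centralizer ({t} : Set G)) := by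
    refine le_pPrimeCore (pCore_normal (G := ↥(centralizer ({t} : Set G))) p) ?_
    obtain ⟨n, hn⟩ := IsPGroup.iff_card.1 (pCore_isPGroup (G := ↥(centralizer ({t} : Set G))) p)
    rw [hn]
    exact Nat.Coprime.pow_left n ((Nat.coprime_primes hp.out Nat.prime_two).2 hp2)
  have h5 : e ∈ centralizerPPrimeCore 2 t := by
    obtain ⟨c, hc, rfl⟩ := h3
    exact ⟨c, h4 hc, rfl⟩
  rw [bal t hto, mem_bot] at h5
  rw [h5, one_mul] at hx
  rw [← hx] at hwm
  exact hm (hd.trans (orderOf_dvd_of_pow_eq_one hwm))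

end Cfsg.Agent.H722.Strong
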